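import Mathlib
import Cfsg.Agent.Lib.PLen.HHB
import Cfsg.Agent.Lib.PGroup.Basic
import Cfsg.Agent.Lib.PGroup.Critical
import Cfsg.Agent.Lib.Coprime.Generation
import Cfsg.Agent.S3736

/-!
Exceptional elements (Hall–Higman): if all elements of a coset `gK` (`K` of exponent `p`) are
exceptional then their `p ^ m`-th powers commute. Consequence: `l_p ≤ 2 e_p` for odd `p`.
-/

set_option autoImplicit false

namespace CfsgLib.PLen

open Subgroup Cfsg CfsgLib.PLocal CfsgLib.Core CfsgLib.HH Finset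
open scoped commutatorElement Pointwise

universe u v

variable {p : ℕ}

theorem exists_central_mod {Γ : Type u} [Group Γ] [Finite Γ] [Fact p.Prime] {T M N : Subgroup Γ}
    (hT : IsPGroup p T) (hMT : M ≤ T) (hM : T ≤ normalizer (M : Set Γ))
    (hN : T ≤ normalizer (N : Set Γ)) (h : ¬ M ≤ N) : ∃ x ∈ M, x ∉ N ∧ ∀ g ∈ T, ⁅x, g⁆ ∈ N := by
  have := hT.isNilpotent
  have := normal_subgroupOf_of_le_normalizer hM
  have := normal_subgroupOf_of_le_normalizer hN
  obtain ⟨x, hx, hxN, h1⟩ := PGroup.exists_central_mod_of_not_le (M := M.subgroupOf T)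
    (N := N.subgroupOf T) fun h1 => h fun x hx =>
      h1 (show (⟨x, hMT hx⟩ : T) ∈ M.subgroupOf T from hx)
  exact ⟨x, hx, hxN, fun g hg => h1 ⟨g, hg⟩⟩

theorem pow_mem_or_pow_eq_one {Γ : Type u} [Group Γ] [hp : Fact p.Prime] {N : Subgroup Γ} {s : Γ}
    {m i : ℕ} (hs : s ^ p ^ (m + 1) = 1) (hi : s ^ i ∈ N) : s ^ i = 1 ∨ s ^ p ^ m ∈ N := by
  obtain ⟨j, hj, e⟩ := (Nat.dvd_prime_pow hp.out).1 (Nat.gcd_dvd_right i (p ^ (m + 1)))
  rcases hj.lt_or_eq with hj | rfl
  · right
    have h1 : s ^ p ^ j ∈ N := by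
      rw [← e, ← zpow_natCast, Nat.gcd_eq_gcd_ab, zpow_add, zpow_mul, zpow_mul, zpow_natCast,
        zpow_natCast, hs, one_zpow, mul_one]
      exact N.zpow_mem hi _
    obtain ⟨k, rfl⟩ : ∃ k, m = j + k := ⟨m - j, by omega⟩
    rw [pow_add, pow_mul]
    exact N.pow_mem h1 _
  · left
    obtain ⟨k, rfl⟩ := Nat.gcd_eq_right_iff_dvd.1 e
    rw [pow_mul, hs, one_pow]

/-- the faithful irreducible case -/
theorem exc_faithful {Γ : Type u} [Group Γ] [Finite Γ] [hp : Fact p.Prime] {T K Q : Subgroup Γ}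
    (hT : IsPGroup p T) (hKT : K ≤ T) (hTK : T ≤ normalizer (K : Set Γ))
    (hK : ∀ k ∈ K, k ^ p = 1) (hQ : (Nat.card Q).Coprime p) (hTQ : T ≤ normalizer (Q : Set Γ))
    (h2 : ⁅Q, Q⁆ ≤ centralizer (Q : Set Γ))
    (hmin : ∀ U : Subgroup Γ, U < Q → T ≤ normalizer (U : Set Γ) → U ≤ ⁅Q, Q⁆)
    (hf : T ⊓ centralizer (Q : Set Γ) = ⊥) {m : ℕ} {S : Set Γ} (hST : ∀ s ∈ S, s ∈ T)
    (hS1 : ∀ s ∈ S, s ^ p ^ (m + 1) = 1)
    (hS2 : ∀ s ∈ S, ∀ s' ∈ S, s ^ p ^ m * (s' ^ p ^ m)⁻¹ ∈ K)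
    (hab : ∀ s ∈ S, ∀ D : Subgroup Γ, D ≤ Q → IsMulCommutative D → s ∈ normalizer (D : Set Γ) →
      s ^ p ^ m ∈ centralizer (D : Set Γ)) {s s' : Γ} (hs : s ∈ S) (hs' : s' ∈ S) :
    s ^ p ^ m * s' ^ p ^ m = s' ^ p ^ m * s ^ p ^ m := by
  set Z := ⁅Q, Q⁆ with hZ
  have hZQ : Z ≤ Q := commutator_le_of_le le_rfl le_rfl
  have hTZ : T ≤ normalizer (Z : Set Γ) :=
    (le_inf hTQ hTQ).trans (normalizer_inf_le_normalizer_commutator Q Q)
  have hZc : IsMulCommutative Z := isMulCommutative_iff_forall.2 fun a ha b hb => h2 hb a (hZQ ha)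
  have hyZ : ∀ s ∈ S, s ^ p ^ m ∈ centralizer (Z : Set Γ) := fun s hs =>
    hab s hs Z hZQ hZc (hTZ (hST s hs))
  set L := K ⊓ centralizer (Z : Set Γ) with hL
  have hTL : T ≤ normalizer (L : Set Γ) := (le_inf hTK (hTZ.trans
    (normalizer_le_normalizer_centralizer _))).trans inf_normalizer_le_normalizer_inf
  obtain ⟨A, -, ⟨hAL, hTA, hAc⟩, hAmax⟩ := PGroup.exists_maximal_ge
    (fun A : Subgroup Γ => A ≤ L ∧ T ≤ normalizer (A : Set Γ) ∧ IsMulCommutative A) (A := ⊥)
    ⟨bot_le, le_normalizer_of_normal, inferInstance⟩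
  have hAT : A ≤ T := hAL.trans (inf_le_left.trans hKT)
  have hAcm := isMulCommutative_iff_forall.1 hAc
  have hCA : L ⊓ centralizer (A : Set Γ) ≤ A := by
    by_contra hcon
    obtain ⟨x, hx, hxA, h1⟩ := exists_central_mod hT (inf_le_left.trans (inf_le_left.trans hKT))
      ((le_inf hTL (hTA.trans (normalizer_le_normalizer_centralizer _))).trans
        inf_normalizer_le_normalizer_inf) hTA hcon
    refine hxA (hAmax (A ⊔ zpowers x) ⟨sup_le hAL (zpowers_le_of_mem hx.1), ?_,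
      PGroup.isMulCommutative_sup_zpowers hAc hx.2⟩ le_sup_left ▸ mem_sup_right (mem_zpowers x))
    refine le_normalizer_of_commutator_le (commutator_sup_left_le (le_sup_left.trans le_normalizer)
      (le_sup_right.trans le_normalizer) ((Coprime.commutator_le_of_le_normalizer hTA).trans
        le_sup_left) (commutator_zpowers_left_le (le_normalizer (mem_sup_right (mem_zpowers x)))
          fun c hc => mem_sup_left (h1 c hc)))
  have hyA : ∀ s ∈ S, s ^ p ^ m ∈ centralizer (A : Set Γ) := by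
    intro s hs a ha
    set y := s ^ p ^ m with hy
    have hyT : y ∈ T := pow_mem (hST s hs) _
    by_cases hA0 : A = ⊥
    · rw [hA0] at ha
      rw [mem_bot.1 ha, one_mul, mul_one]
    have hcA : ⁅a, y⁆ ∈ A := Coprime.commutator_le_of_le_normalizer hTA
      (commutator_mem_commutator ha hyT)
    have hCQ : Q ⊓ centralizer (A : Set Γ) ≤ Z := by
      refine hmin _ (lt_of_le_of_ne inf_le_left fun h => hA0 ?_) ((le_inf hTQ (hTA.trans
        (normalizer_le_normalizer_centralizer _))).trans inf_normalizer_le_normalizer_inf)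
      rw [eq_bot_iff, ← hf]
      exact le_inf hAT (le_centralizer_iff.1 (h ▸ inf_le_right))
    have hcop : (Nat.card A).Coprime (Nat.card Q) := isPGroup_coprime_card (hT.to_le hAT) hQ
    have hgen : ∀ B : Subgroup Γ, B ≤ A → B.relIndex A = p → ∀ b ∈ A, b ∉ B →
        B ⊔ zpowers b = A := fun B hB hi b hb hbB =>
      Coprime.eq_of_lt_of_relIndex_prime (hi ▸ hp.out) (lt_of_le_of_ne le_sup_left fun h =>
        hbB (h ▸ mem_sup_right (mem_zpowers b))) (sup_le hB (zpowers_le_of_mem hb))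
    have hQc : Q ≤ centralizer {⁅a, y⁆} := by
      refine Coprime.le_of_forall_hyperplane hp.out (fun a ha => hK a (hAL ha).1) hA0
        (hAT.trans hTQ) hcop fun B hB hi => ?_
      by_cases hBZ : Q ⊓ centralizer (B : Set Γ) ≤ Z
      · exact fun x hx => mem_centralizer_singleton_iff.2 ((hAL hcA).2 x (hBZ hx))
      obtain ⟨w, ⟨hwQ, hwB⟩, hwZ⟩ := SetLike.not_le_iff_exists.1 hBZ
      have hAB : A ≤ normalizer (B : Set Γ) :=
        (show A ≤ centralizer (B : Set Γ) from fun x hx b hb => hAcm b (hB hb) x hx).trans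
          (centralizer_le_normalizer _)
      -- conjugates of the hyperplane `B`
      have hconj : ∀ t ∈ T, t ∉ normalizer (B : Set Γ) → ∃ b ∈ B,
          (MulAut.conj t • B : Subgroup Γ) ⊔ zpowers b = A := by
        intro t ht htB
        have h3 : ¬ B ≤ MulAut.conj t • B := fun h => htB (mem_normalizer_iff_conj_smul_eq.2
          (eq_of_le_of_card_le h (card_conj_smul B t).le).symm)
        obtain ⟨b, hb, hb'⟩ := SetLike.not_le_iff_exists.1 h3
        exact ⟨b, hb, hgen _ (Coprime.conj_smul_le_of_mem_normalizer (hTA ht) hB)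
          (by rw [Coprime.relIndex_conj_smul (hTA ht), hi]) b (hB hb) hb'⟩
      have hwc : ∀ t : Γ, t * w * t⁻¹ ∈ centralizer ((MulAut.conj t • B : Subgroup Γ) : Set Γ) := by
        intro t x hx
        have := hwB _ (mem_conj_smul_iff.1 hx)
        calc x * (t * w * t⁻¹) = t * (t⁻¹ * x * t * w) * t⁻¹ := by group
          _ = _ := by rw [this]; group
      have hyB : y ∈ normalizer (B : Set Γ) := by
        by_contra hyB
        have hcm : ∀ k : ℕ, w * (s ^ k * w * (s ^ k)⁻¹) = s ^ k * w * (s ^ k)⁻¹ * w := by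
          intro k
          by_cases hk : s ^ k = 1
          · simp [hk]
          have hkT : s ^ k ∈ T := pow_mem (hST s hs) k
          obtain ⟨b, hb, hbA⟩ := hconj _ hkT fun h =>
            (pow_mem_or_pow_eq_one (hS1 s hs) h).elim hk hyB
          set B' : Subgroup Γ := MulAut.conj (s ^ k) • B with hB'
          have hB'A : B' ≤ A := hbA ▸ le_sup_left
          have hbA' : zpowers b ≤ A := hbA ▸ le_sup_right
          obtain ⟨u, hu, c, hc, e⟩ := Coprime.exists_commutator_mul_centralizer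
            (K := Q ⊓ centralizer (B' : Set Γ)) (A := zpowers b)
            (hbA'.trans ((le_inf (hAT.trans hTQ) ((show A ≤ centralizer (B' : Set Γ) from
              fun x hx b hb => hAcm b (hB'A hb) x hx).trans le_normalizer)).trans
              inf_normalizer_le_normalizer_inf))
            (Coprime.coprime_of_le hcop hbA' inf_le_left) (Or.inl (Coprime.isSolvable_zpowers b))
            (k := s ^ k * w * (s ^ k)⁻¹) ⟨(mem_normalizer_iff.1 (hTQ hkT) w).1 hwQ, hwc _⟩
          have hcZ : c ∈ Z := hCQ ⟨hc.1.1, by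
            rw [← hbA, centralizer_sup]; exact ⟨hc.1.2, hc.2⟩⟩
          have huw : ⁅Q ⊓ centralizer (B' : Set Γ), zpowers b⁆ ≤ centralizer {w} := by
            rw [commutator_le]
            intro x hx β hβ
            have hβB : β ∈ B := zpowers_le_of_mem hb hβ
            have hx' : β * x⁻¹ * β⁻¹ ∈ Q :=
              (mem_normalizer_iff.1 (hTQ (hAT (hB hβB))) _).1 (inv_mem hx.1)
            have e1 : ⁅w, β * x⁻¹ * β⁻¹⁆ = ⁅w, x⁻¹⁆ := by
              have e2 : β * w * β⁻¹ = w := by rw [hwB β hβB, mul_inv_cancel_right]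
              nth_rewrite 1 [← e2]
              rw [← conjugate_commutatorElement, ← (hAL (hB hβB)).2 _
                (commutator_mem_commutator hwQ (inv_mem hx.1)), mul_inv_cancel_right]
            have hcm2 : ∀ v ∈ Q, ⁅w, x * v⁆ = ⁅w, x⁆ * ⁅w, v⁆ := fun v hv =>
              commutatorElement_mul_right_of_commute
                (h2 (commutator_mem_commutator hwQ hv) x hx.1)
            rw [mem_centralizer_singleton_iff, eq_comm, ← commutatorElement_eq_one_iff_mul_comm,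
              show ⁅x, β⁆ = x * (β * x⁻¹ * β⁻¹) by rw [commutatorElement_def]; group,
              hcm2 _ hx', e1, ← hcm2 _ (inv_mem hx.1), mul_inv_cancel, commutatorElement_one_right]
          rw [e, ← mul_assoc, ← mem_centralizer_singleton_iff.1 (huw hu), mul_assoc,
            h2 hcZ w hwQ, mul_assoc]
        set D := closure (Set.range fun i : ℕ => s ^ i * w * (s ^ i)⁻¹) with hD
        have hDQ : D ≤ Q := (closure_le _).2 (by
          rintro _ ⟨i, rfl⟩
          exact (mem_normalizer_iff.1 (hTQ (pow_mem (hST s hs) i)) w).1 hwQ)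
        have hDc : IsMulCommutative D := by
          have h3 : ∀ i k : ℕ, s ^ i * w * (s ^ i)⁻¹ * (s ^ (i + k) * w * (s ^ (i + k))⁻¹) =
              s ^ (i + k) * w * (s ^ (i + k))⁻¹ * (s ^ i * w * (s ^ i)⁻¹) := fun i k => by
            calc _ = s ^ i * (w * (s ^ k * w * (s ^ k)⁻¹)) * (s ^ i)⁻¹ := by rw [pow_add]; group
              _ = _ := by rw [hcm, pow_add]; group
          refine isMulCommutative_closure ?_
          rintro _ ⟨i, rfl⟩ _ ⟨j, rfl⟩
          rcases le_total i j with h | h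
          · obtain ⟨k, rfl⟩ := Nat.exists_eq_add_of_le h
            exact h3 i k
          · obtain ⟨k, rfl⟩ := Nat.exists_eq_add_of_le h
            exact (h3 j k).symm
        have hsD : s ∈ normalizer (D : Set Γ) := by
          refine mem_normalizer_of_forall_conj_mem fun x hx => ?_
          have : D.map (MulAut.conj s).toMonoidHom ≤ D := by
            rw [hD, MonoidHom.map_closure]
            refine closure_mono ?_
            rintro _ ⟨_, ⟨i, rfl⟩, rfl⟩
            exact ⟨i + 1, by simp only [MulEquiv.coe_toMonoidHom, MulAut.conj_apply, pow_succ']; group⟩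
          exact this (mem_map_of_mem _ hx)
        have h3 := hab s hs D hDQ hDc hsD w (subset_closure ⟨0, by simp⟩)
        obtain ⟨b, hb, hbA⟩ := hconj y hyT hyB
        have h4 := hwc y
        rw [← h3, mul_inv_cancel_right] at h4
        refine hwZ (hCQ ⟨hwQ, ?_⟩)
        rw [← hbA, centralizer_sup]
        exact ⟨h4, centralizer_le (zpowers_le_of_mem hb) hwB⟩
      obtain ⟨x, hx, hxB, h3⟩ := exists_central_mod (T := A ⊔ zpowers y) (M := A) (N := B)
        (hT.to_le (sup_le hAT (zpowers_le_of_mem hyT))) le_sup_left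
        (sup_le le_normalizer (zpowers_le_of_mem (hTA hyT))) (sup_le hAB (zpowers_le_of_mem hyB))
        fun h => hp.out.one_lt.ne' (by rw [← hi, relIndex_eq_one.2 h])
      have h4 : ⁅A, zpowers y⁆ ≤ B := by
        nth_rewrite 1 [← hgen B hB hi x hx hxB]
        exact commutator_sup_left_le le_normalizer (zpowers_le_of_mem (hAB hx))
          (Coprime.commutator_le_of_le_normalizer (zpowers_le_of_mem hyB))
          (commutator_zpowers_left_le (hAB hx) fun c hc => h3 c (mem_sup_right hc))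
      exact fun x hx => mem_centralizer_singleton_iff.2
        (hx.2 _ (h4 (commutator_mem_commutator ha (mem_zpowers y)))).symm
    have h5 : ⁅a, y⁆ ∈ T ⊓ centralizer (Q : Set Γ) :=
      ⟨hAT hcA, fun x hx => mem_centralizer_singleton_iff.1 (hQc hx)⟩
    rw [hf, mem_bot, commutatorElement_eq_one_iff_mul_comm] at h5
    exact h5
  have h6 : s ^ p ^ m * (s' ^ p ^ m)⁻¹ ∈ A := hCA ⟨⟨hS2 s hs s' hs',
    mul_mem (hyZ s hs) (Subgroup.inv_mem _ (hyZ s' hs'))⟩,
    mul_mem (hyA s hs) (Subgroup.inv_mem _ (hyA s' hs'))⟩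
  have h7 := hyA s' hs' _ h6
  calc s ^ p ^ m * s' ^ p ^ m = s ^ p ^ m * (s' ^ p ^ m)⁻¹ * s' ^ p ^ m * s' ^ p ^ m := by group
    _ = _ := by rw [h7]; group

/-- Hall–Higman's theorem on cosets of exceptional elements -/
theorem exc_commutator {Γ : Type u} [Group Γ] [Finite Γ] [hp : Fact p.Prime] {T K Q₁ : Subgroup Γ}
    (hT : IsPGroup p T) (hKT : K ≤ T) (hTK : T ≤ normalizer (K : Set Γ))
    (hK : ∀ k ∈ K, k ^ p = 1) {q : ℕ} (hq : q.Prime) (hqp : q ≠ p) (hQ₁ : IsPGroup q Q₁)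
    (hTQ₁ : T ≤ normalizer (Q₁ : Set Γ)) {m : ℕ} {S : Set Γ} (hST : ∀ s ∈ S, s ∈ T)
    (hSc : ∀ s ∈ S, ∀ t ∈ T, t * s * t⁻¹ ∈ S) (hS1 : ∀ s ∈ S, s ^ p ^ (m + 1) = 1)
    (hS2 : ∀ s ∈ S, ∀ s' ∈ S, s ^ p ^ m * (s' ^ p ^ m)⁻¹ ∈ K)
    (hab : ∀ s ∈ S, ∀ D : Subgroup Γ, D ≤ Q₁ → IsMulCommutative D → s ∈ normalizer (D : Set Γ) →
      s ^ p ^ m ∈ centralizer (D : Set Γ)) {s s' : Γ} (hs : s ∈ S) (hs' : s' ∈ S) :
    ⁅s ^ p ^ m, s' ^ p ^ m⁆ ∈ centralizer (Q₁ : Set Γ) := by
  have := Fact.mk hq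
  set C := closure {c | ∃ s ∈ S, ∃ s' ∈ S, c = ⁅s ^ p ^ m, s' ^ p ^ m⁆} with hC
  have hCT : C ≤ T := (closure_le _).2 (by
    rintro _ ⟨s, hs, s', hs', rfl⟩
    exact commutator_le_of_le le_rfl le_rfl
      (commutator_mem_commutator (pow_mem (hST s hs) _) (pow_mem (hST s' hs') _)))
  have hTC : T ≤ normalizer (C : Set Γ) := fun t ht => by
    refine mem_normalizer_of_forall_conj_mem fun x hx => ?_
    have : C.map (MulAut.conj t).toMonoidHom ≤ C := by
      rw [hC, MonoidHom.map_closure]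
      refine closure_mono ?_
      rintro _ ⟨_, ⟨s, hs, s', hs', rfl⟩, rfl⟩
      refine ⟨_, hSc s hs t ht, _, hSc s' hs' t ht, ?_⟩
      rw [map_commutatorElement, map_pow, map_pow]
      rfl
    exact this (mem_map_of_mem _ hx)
  suffices h : ⁅Q₁, C⁆ = ⊥ from
    le_centralizer_iff.1 (commutator_eq_bot_iff_le_centralizer.1 h)
      (subset_closure ⟨s, hs, s', hs', rfl⟩)
  by_contra hne
  obtain ⟨Q, ⟨hQQ, hTQ, hQC⟩, hmin⟩ := exists_minimal_of_wellFoundedLT
    (fun U : Subgroup Γ => U ≤ Q₁ ∧ T ≤ normalizer (U : Set Γ) ∧ ⁅U, C⁆ ≠ ⊥)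
    ⟨Q₁, le_rfl, hTQ₁, hne⟩
  have hQ : IsPGroup q Q := hQ₁.to_le hQQ
  have hmin' : ∀ U : Subgroup Γ, U < Q → T ≤ normalizer (U : Set Γ) → ⁅U, C⁆ = ⊥ := by
    intro U hU hBU
    by_contra h
    exact hU.not_ge (hmin ⟨hU.le.trans hQQ, hBU, h⟩ hU.le)
  have hpq : p.Coprime q := (Nat.coprime_primes hp.out hq).2 hqp.symm
  obtain ⟨-, h2, -, h4⟩ := Cfsg.Agent.S3736.core T C Q hQ hTQ hCT hTC
    (isPGroup_coprime_card (hT.to_le hCT) hpq.symm) hQC hmin'
  have hQp : (Nat.card Q).Coprime p := isPGroup_coprime_card hQ hpq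
  set H := Q ⊔ T with hH
  have hHQ : H ≤ normalizer (Q : Set Γ) := sup_le le_normalizer hTQ
  set N := T ⊓ centralizer (Q : Set Γ) with hN
  have hHN : H ≤ normalizer (N : Set Γ) := sup_le
    ((le_centralizer_iff.1 inf_le_right).trans (centralizer_le_normalizer _))
    ((le_inf le_normalizer (hTQ.trans (normalizer_le_normalizer_centralizer _))).trans
      inf_normalizer_le_normalizer_inf)
  have := normal_subgroupOf_of_le_normalizer hHN
  set f := QuotientGroup.mk' (N.subgroupOf H) with hf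
  have hfk : ∀ x : H, f x = 1 ↔ (x : Γ) ∈ N := fun x => QuotientGroup.eq_one_iff x
  set im : Subgroup Γ → Subgroup (H ⧸ N.subgroupOf H) := fun U => (U.subgroupOf H).map f with him
  have him1 : ∀ U W : Subgroup Γ, U ≤ normalizer (W : Set Γ) →
      im U ≤ normalizer (im W : Set _) := fun U W h =>
    (map_mono fun x hx => mem_normalizer_subgroupOf (h hx)).trans (le_normalizer_map f)
  have him2 : im ⁅Q, Q⁆ = ⁅im Q, im Q⁆ := by
    simp only [him]
    rw [← map_commutator, commutator_subgroupOf le_sup_left le_sup_left]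
  have hinj : ∀ x : H, (x : Γ) ∈ Q → f x = 1 → x = 1 := fun x hx h => by
    have h1 : (x : Γ) ∈ T ⊓ Q := ⟨((hfk x).1 h).1, hx⟩
    rw [isPGroup_inf_eq_bot_of_coprime hT hQp, mem_bot] at h1
    exact Subtype.ext h1
  -- pull back of subgroups of the image of `Q`
  set pb : Subgroup (H ⧸ N.subgroupOf H) → Subgroup Γ :=
    fun U => (U.comap f).map H.subtype ⊓ Q with hpb
  have hpb1 : ∀ U (x : H), (x : Γ) ∈ pb U ↔ f x ∈ U ∧ (x : Γ) ∈ Q := fun U x => by
    simp only [hpb, Subgroup.mem_inf]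
    refine and_congr_left fun _ => ⟨?_, fun h => ⟨x, h, rfl⟩⟩
    rintro ⟨y, hy, e⟩
    exact (Subtype.ext e : y = x) ▸ hy
  have hpb2 : ∀ (U : Subgroup (H ⧸ N.subgroupOf H)) (t : H), f t ∈ normalizer (U : Set _) →
      (t : Γ) ∈ normalizer (pb U : Set Γ) := by
    intro U t ht
    refine mem_normalizer_of_forall_conj_mem fun x hx => ?_
    have hx' := (hpb1 U ⟨x, mem_sup_left hx.2⟩).1 hx
    refine (hpb1 U (t * ⟨x, mem_sup_left hx.2⟩ * t⁻¹)).2 ⟨?_,
      (mem_normalizer_iff.1 (hHQ t.2) x).1 hx.2⟩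
    rw [map_mul, map_mul, map_inv]
    exact (mem_normalizer_iff.1 ht _).1 hx'.1
  have key : ∀ s (hs : s ∈ S) s' (hs' : s' ∈ S), ⁅s ^ p ^ m, s' ^ p ^ m⁆ ∈ N := by
    intro s hs s' hs'
    have h5 := exc_faithful (T := im T) (K := im K) (Q := im Q) (m := m)
      (S := f '' {x : H | (x : Γ) ∈ S}) (hT.comap_subtype.map f)
      (map_mono (comap_mono hKT)) (him1 _ _ hTK)
      (by
        rintro _ ⟨k, hk, rfl⟩
        rw [← map_pow, show k ^ p = 1 from Subtype.ext (hK k hk), map_one])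
      (isPGroup_coprime_card (hQ.comap_subtype.map f) hpq) (him1 _ _ hTQ)
      (by
        rw [← him2]
        rintro _ ⟨x, hx, rfl⟩ _ ⟨y, hy, rfl⟩
        rw [← map_mul, ← map_mul]
        congr 1
        exact Subtype.ext (h4 hx y hy))
      (by
        intro U hU hTU
        have h5 : pb U < Q := lt_of_le_of_ne inf_le_right fun h => hU.not_ge (by
          rintro _ ⟨x, hx, rfl⟩
          exact ((hpb1 U x).1 (h ▸ hx)).1)
        have h6 := commutator_eq_bot_iff_le_centralizer.1 (hmin' _ h5 fun t ht =>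
          hpb2 U ⟨t, mem_sup_right ht⟩ (hTU (mem_map_of_mem f ht)))
        intro y hy
        obtain ⟨x, hx, rfl⟩ := hU.le hy
        rw [← him2, ← h2]
        exact mem_map_of_mem f ⟨hx, h6 ((hpb1 U x).2 ⟨hy, hx⟩)⟩)
      (by
        rw [eq_bot_iff]
        rintro _ ⟨⟨t, ht, rfl⟩, hc⟩
        refine (hfk t).2 ⟨ht, fun a ha => ?_⟩
        have h5 := hinj (⟨a, mem_sup_left ha⟩ * t * ⟨a, mem_sup_left ha⟩⁻¹ * t⁻¹) (by
          have := mul_mem ha ((mem_normalizer_iff.1 (hTQ ht) _).1 (inv_mem ha))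
          simpa [mul_assoc] using this) (by
          rw [map_mul, map_mul, map_mul, hc _ (mem_map_of_mem f
            (show (⟨a, mem_sup_left ha⟩ : H) ∈ Q.subgroupOf H from ha))]
          simp)
        rw [mul_inv_eq_one, mul_inv_eq_iff_eq_mul] at h5
        exact congrArg Subtype.val h5)
      (by
        rintro _ ⟨x, hx, rfl⟩
        exact mem_map_of_mem f (hST x hx))
      (by
        rintro _ ⟨x, hx, rfl⟩
        rw [← map_pow, show x ^ p ^ (m + 1) = 1 from Subtype.ext (hS1 x hx), map_one])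
      (by
        rintro _ ⟨x, hx, rfl⟩ _ ⟨y, hy, rfl⟩
        rw [← map_pow, ← map_pow, ← map_inv, ← map_mul]
        exact mem_map_of_mem f (hS2 x hx y hy))
      (by
        rintro _ ⟨x, hx, rfl⟩ D hD hDc hxD y hy
        obtain ⟨y, hyQ, rfl⟩ := hD hy
        have h5 := hab x hx (pb D) (inf_le_right.trans hQQ) (isMulCommutative_iff_forall.2
          fun a ha b hb => by
            have h6 := hinj (⟨a, mem_sup_left ha.2⟩ * ⟨b, mem_sup_left hb.2⟩ *
              ⟨a, mem_sup_left ha.2⟩⁻¹ * ⟨b, mem_sup_left hb.2⟩⁻¹)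
              (mul_mem (mul_mem (mul_mem ha.2 hb.2) (Q.inv_mem ha.2)) (Q.inv_mem hb.2)) (by
                rw [map_mul, map_mul, map_mul, isMulCommutative_iff_forall.1 hDc _
                  ((hpb1 D ⟨a, mem_sup_left ha.2⟩).1 ha).1 _
                  ((hpb1 D ⟨b, mem_sup_left hb.2⟩).1 hb).1]
                simp)
            rw [mul_inv_eq_one, mul_inv_eq_iff_eq_mul] at h6
            exact congrArg Subtype.val h6) (hpb2 D x hxD) y ((hpb1 D y).2 ⟨hy, hyQ⟩)
        rw [← map_pow, ← map_mul, ← map_mul]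
        congr 1
        exact Subtype.ext h5)
      (s := f ⟨s, mem_sup_right (hST s hs)⟩) (s' := f ⟨s', mem_sup_right (hST s' hs')⟩)
      ⟨_, hs, rfl⟩ ⟨_, hs', rfl⟩
    rw [← commutatorElement_eq_one_iff_mul_comm, ← map_pow, ← map_pow, ← map_commutatorElement,
      hfk] at h5
    exact h5
  refine hQC (commutator_eq_bot_iff_le_centralizer.2 (le_centralizer_iff.1 ((closure_le _).2 ?_)))
  rintro _ ⟨s, hs, s', hs', rfl⟩
  exact (key s hs s' hs').2

/-- For odd `p` the exponent drops modulo `O_{p',p,p',p}`. -/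
theorem pExp_quotient_two {X : Type u} [Group X] [Finite X] [hp : Fact p.Prime] (hp2 : p ≠ 2)
    (hX : IsPSolvable p X) (hV : IsElementaryAbelian p (pCore p X))
    (hc : centralizer (pCore p X : Set X) ≤ pCore p X) {m : ℕ} (h : PExp p (m + 1) X) :
    PExp p m (((X ⧸ pCore p X) ⧸ pPrimeCore p (X ⧸ pCore p X)) ⧸ pCore p _) := by
  have := elem_finiteDimensional hV
  have hρf := quotRep_faithful hV hc
  have hρs : ∀ y : X ⧸ pCore p X, (∃ k : ℕ, y ^ p ^ k = 1) →
      ∑ i ∈ range (p ^ (m + 1)), quotRep hV y ^ i = 0 := fun y hy => by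
    obtain ⟨x, rfl, hx⟩ := exists_pElem_lift (QuotientGroup.mk'_surjective _) hy
    exact h.sum_eq_zero hV hx
  have hY : IsPSolvable p (X ⧸ pCore p X) := PSolv.quotient hX _
  have hYO : pCore p (X ⧸ pCore p X) = ⊥ := PSolv.pCore_quotient
  have hYe := h.of_surjective (QuotientGroup.mk'_surjective (pCore p X))
  generalize quotRep hV = ρ at hρf hρs
  generalize_proofs at *
  set Y := X ⧸ pCore p X
  set Y₁ := Y ⧸ pPrimeCore p Y
  set π : Y →* Y₁ := QuotientGroup.mk' _ with hπ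
  have hπs : Function.Surjective π := QuotientGroup.mk'_surjective _
  have hY₁ : IsPSolvable p Y₁ := PSolv.quotient hY _
  have hY₁e := hYe.of_surjective hπs
  have hc₁ : centralizer (pCore p Y₁ : Set Y₁) ≤ pCore p Y₁ :=
    PSolv.centralizer_pCore_le hY₁ PSolv.pPrimeCore_quotient
  set U := pCore p Y₁ with hU
  intro g₃ hg₃
  by_contra hne
  obtain ⟨q, Q₃, hq, hqp, hQ₃, -, hgQ₃, w₃, hw₃, hne₃⟩ := exists_inv_not_comm (PSolv.quotient hY₁ U)
    PSolv.pCore_quotient (isPGroup_zpowers_iff.2 hg₃) (pow_mem (mem_zpowers g₃) (p ^ m)) hne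
  have := Fact.mk hq
  obtain ⟨Q₁, hQ₁, rfl⟩ := exists_pSubgroup_lift (QuotientGroup.mk'_surjective U) hQ₃
  obtain ⟨w, hw, rfl⟩ := mem_map.1 hw₃
  have hQp : (Nat.card Q₁).Coprime p :=
    isPGroup_coprime_card hQ₁ ((Nat.coprime_primes hp.out hq).2 hqp.symm)
  have h1 := hgQ₃ (mem_zpowers _)
  rw [← Coprime.map_normalizer_quotient U (isPGroup_coprime_card (isPGroup_pCore p Y₁) hQp).symm
    (Or.inl (Coprime.isSolvable_of_isPGroup hQ₁))] at h1
  obtain ⟨g, hgQ, rfl⟩ := h1
  have hg : ∃ k : ℕ, g ^ p ^ k = 1 := by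
    obtain ⟨k, hk⟩ := hg₃
    rw [← map_pow] at hk
    obtain ⟨l, hl⟩ := isPGroup_subgroup_iff.1 (isPGroup_pCore p Y₁) _
      ((QuotientGroup.eq_one_iff _).1 hk)
    exact ⟨k + l, by rw [pow_add, pow_mul, hl]⟩
  obtain ⟨K₀, hK₀, hK₀e, -, hK₀a⟩ := PGroup.exists_critical_exponent_prime hp2 (isPGroup_pCore p Y₁)
  set K₁ := K₀.map U.subtype with hK₁
  have : K₁.Normal := normal_map_subtype_of_characteristic K₀
  have hK₁p : IsPGroup p K₁ := (isPGroup_pCore p Y₁).to_le (map_subtype_le _)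
  have hK₁e : ∀ k ∈ K₁, k ^ p = 1 := by
    rintro _ ⟨k, hk, rfl⟩
    rw [← map_pow, hK₀e k hk, map_one]
  have := normal_map_subtype_of_characteristic (frattini K₁)
  set F := (frattini K₁).map K₁.subtype with hF
  set φ := QuotientGroup.mk' F with hφ
  have hW : IsElementaryAbelian p (K₁.map φ) := by
    refine ⟨isMulCommutative_iff_forall.2 fun a ha b hb => ?_, ?_⟩
    · exact (((commutator_le_iff_map_mk' F).1 (commutator_le_map_frattini hK₁p)) ha b hb).symm
    · rintro _ ⟨a, ha, rfl⟩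
      rw [← map_pow, hK₁e a ha, map_one]
  have : (K₁.map φ).Normal := Normal.map inferInstance _ (QuotientGroup.mk'_surjective F)
  have hCW : (centralizer ((K₁.map φ : Subgroup _) : Set _)).comap φ ≤ U := by
    refine comap_centralizer_le_pCore hc₁ hK₁p (fun x hx hxK => ?_) φ (by
      rw [hφ, QuotientGroup.ker_mk'])
    have h1 := hK₀a (MulAut.conjNormal x) (Nat.Coprime.coprime_dvd_left (orderOf_map_dvd _ x) hx)
      fun k hk => Subtype.ext (by
        rw [MulAut.conjNormal_apply, mul_inv_eq_iff_eq_mul]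
        exact (hxK _ (mem_map_of_mem _ hk)).symm)
    intro u hu
    have h2 := congrArg (fun a : MulAut U => (a ⟨u, hu⟩ : Y₁)) h1
    simp only [MulAut.conjNormal_apply, MulAut.one_apply] at h2
    exact (mul_inv_eq_iff_eq_mul.1 h2).symm
  set σ : Representation (ZMod p) Y₁ (ElemMod hW) := (conjRep hW).comp φ with hσ
  have := elem_finiteDimensional hW
  have hind := HHConcl.powIndep hp.out.pos (hh hp.out hqp.symm
    (natCast_zmod_ne_zero hp.out hq hqp.symm) σ Q₁ g m hQ₁ hgQ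
    (by rw [← map_pow, hY₁e g hg, map_one]) ⟨w, hw, fun h => hne₃ (by
      have h1 := hCW ((conjRep_eq_one_iff hW _).1 ((comm_iff_apply_eq_one σ _ _).1 h))
      rw [← map_pow, ← map_mul, ← map_mul, QuotientGroup.mk'_apply, QuotientGroup.mk'_apply,
        QuotientGroup.eq_iff_div_mem, div_eq_mul_inv, mul_inv_rev, ← mul_assoc]
      exact h1)⟩)
  -- lift `K₁ ⟨g⟩` to `Y`
  obtain ⟨T, hT, hTπ⟩ := exists_pSubgroup_lift hπs
    (hK₁p.to_sup_of_normal_left (isPGroup_zpowers_iff.2 hg))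
  have hinj : ∀ t ∈ T, π t = 1 → t = 1 := fun t ht h => by
    have h1 : t ∈ T ⊓ pPrimeCore p Y := ⟨ht, (QuotientGroup.eq_one_iff t).1 h⟩
    rwa [isPGroup_inf_eq_bot_of_coprime hT (coprime_card_pPrimeCore p Y), mem_bot] at h1
  set S : Set Y := {s | s ∈ T ∧ QuotientGroup.mk' K₁ (π s) = QuotientGroup.mk' K₁ g} with hS
  have hcomm : ∀ s ∈ S, ∀ s' ∈ S, ⁅s ^ p ^ m, s' ^ p ^ m⁆ = 1 := by
    intro s hs s' hs'
    by_contra hne'
    obtain ⟨r, R, hr, hrp, hR, -, hTR, a, ha, hne''⟩ := exists_inv_not_comm hY hYO hT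
      (commutator_le_of_le le_rfl le_rfl
        (commutator_mem_commutator (pow_mem hs.1 (p ^ m)) (pow_mem hs'.1 (p ^ m)))) hne'
    have := Fact.mk hr
    refine hne'' (exc_commutator (K := T ⊓ K₁.comap π) (S := S) hT inf_le_left
      ((le_inf le_normalizer le_normalizer_of_normal).trans inf_normalizer_le_normalizer_inf)
      (fun k hk => hinj _ (pow_mem hk.1 p) (by rw [map_pow, hK₁e _ hk.2])) hr hrp hR hTR
      (fun s hs => hs.1) (fun s hs t ht => ⟨mul_mem (mul_mem ht hs.1) (inv_mem ht), ?_⟩)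
      (fun s hs => hYe s (isPGroup_subgroup_iff.1 hT s hs.1))
      (fun s hs s' hs' => ⟨mul_mem (pow_mem hs.1 _) (T.inv_mem (pow_mem hs'.1 _)), ?_⟩)
      (fun s hs D hD hDc hsD => ?_) hs hs' a ha).symm
    · have h1 : (K₁ ⊔ zpowers g).map (QuotientGroup.mk' K₁) ≤
          centralizer {QuotientGroup.mk' K₁ g} := by
        rw [Subgroup.map_sup, QuotientGroup.map_mk'_self, bot_sup_eq, MonoidHom.map_zpowers]
        exact zpowers_le_of_mem (mem_centralizer_singleton_iff.2 rfl)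
      have h2 := mem_centralizer_singleton_iff.1 (h1 (mem_map_of_mem _ (hTπ ▸ mem_map_of_mem π ht)))
      simp only [map_mul, map_inv, hs.2, h2, mul_inv_cancel_right]
    · change π _ ∈ K₁
      rw [← QuotientGroup.ker_mk' K₁, MonoidHom.mem_ker]
      simp only [map_mul, map_inv, map_pow, hs.2, hs'.2, mul_inv_cancel]
    · by_contra hcon
      have hs1 := isPGroup_subgroup_iff.1 hT s hs.1
      rcases hh hp.out hrp.symm (natCast_zmod_ne_zero hp.out hr hrp.symm) ρ D s m (hR.to_le hD) hsD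
        (by rw [← map_pow, hYe s hs1, map_one]) (by
          by_contra h1
          push Not at h1
          refine hcon fun d hd => ?_
          have h2 := hρf _ ((comm_iff_apply_eq_one ρ _ _).1 (h1 d hd))
          rw [mul_inv_eq_one, mul_inv_eq_iff_eq_mul] at h2
          exact h2.symm) with h1 | ⟨-, -, -, -, -, -, -, ⟨d, hd, d', hd', h1⟩, -⟩
      · exact h1.sum_ne_zero (pow_pos hp.out.pos _) (hρs s hs1)
      · exact h1 (by rw [← map_mul, ← map_mul, isMulCommutative_iff_forall.1 hDc d hd d' hd'])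
  set n := p ^ m with hn
  have hrel : -∑ i ∈ range n, σ g ^ i + σ g ^ n * ∑ i ∈ range n, σ g ^ i = 0 := by
    refine LinearMap.ext fun v => ?_
    obtain ⟨k, hk, hkv⟩ := v.toG_mem
    obtain ⟨s, hs, hs1⟩ : k * g ∈ T.map π := hTπ ▸ mul_mem_sup hk (mem_zpowers g)
    obtain ⟨s', hs', hs1'⟩ : g ∈ T.map π := hTπ ▸ mem_sup_right (mem_zpowers g)
    have h1 := congrArg (fun y => φ (π y)) (commutatorElement_eq_one_iff_mul_comm.1
      (hcomm s ⟨hs, by rw [hs1, map_mul, QuotientGroup.mk'_apply _ k,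
        (QuotientGroup.eq_one_iff k).2 hk, one_mul]⟩ s' ⟨hs', by rw [hs1']⟩))
    simp only [map_mul, map_pow, hs1, hs1', hkv] at h1
    rw [mul_pow_eq hW, ← mul_assoc, mul_right_cancel_iff] at h1
    rw [LinearMap.add_apply, LinearMap.neg_apply, LinearMap.zero_apply, neg_add_eq_zero,
      Module.End.mul_apply, ← ElemMod.toG_inj, ← map_pow]
    change _ = (conjRep hW (φ (g ^ n)) _).toG
    rw [toG_conjRep, map_pow, eq_mul_inv_iff_mul_eq]
    exact h1
  have h2 : n + n ≤ n * (p - 1) := by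
    rw [← mul_two]
    exact Nat.mul_le_mul_left _ (by have := hp.out.two_le; omega)
  have h3 := hind.mono h2 (fun i => if i < n then -1 else 1) (by
    rw [← hrel, sum_range_add, Finset.mul_sum, ← sum_neg_distrib]
    congr 1
    · exact sum_congr rfl fun i hi => by rw [if_pos (mem_range.1 hi), neg_one_smul]
    · exact sum_congr rfl fun i _ => by rw [if_neg (by omega), one_smul, pow_add])
    0 (by have := pow_pos hp.out.pos m; omega)
  rw [if_pos (pow_pos hp.out.pos m)] at h3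
  exact one_ne_zero (neg_eq_zero.1 h3)

/-- Hall–Higman: `l_p ≤ 2 e_p` for odd `p`. -/
theorem plen_two_mul_of_pExp [Fact p.Prime] (hp2 : p ≠ 2) {e : ℕ} :
    ∀ {G : Type u} [Group G] [Finite G], IsPSolvable p G → PExp p e G →
      PLengthLE p (2 * e) G := by
  induction e with
  | zero => exact fun _ h => plen_zero_iff.2 h.coprime
  | succ e ih =>
    intro G _ _ hG h
    obtain ⟨X, _, _, f, hf, hX, hV, hc, hfX⟩ := exists_reduction hG
    exact plen_succ_of_reduction hf hfX (plen_succ_of_reduction (QuotientGroup.mk'_surjective _) rfl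
      (ih (PSolv.quotient (PSolv.quotient (PSolv.quotient hX _) _) _)
        (pExp_quotient_two hp2 hX hV hc (h.of_surjective hf))))

end CfsgLib.PLen
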